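import Cfsg.Agent.Lib.TCX.Fi23.Defs

set_option autoImplicit false
set_option maxRecDepth 100000
set_option Elab.async false

namespace Cfsg.Agent.TCX.Fi23

theorem c0 : l0c 0 0 138 = 0 := by decide +kernel
theorem c1 : l0c 0 138 117 = 0 := by decide +kernel
theorem c2 : l0c 1 0 140 = 0 := by decide +kernel
theorem c3 : l0c 1 140 115 = 0 := by decide +kernel
theorem c4 : l0c 2 0 141 = 0 := by decide +kernel
theorem c5 : l0c 2 141 114 = 0 := by decide +kernel
theorem c6 : l0c 3 0 140 = 0 := by decide +kernel
theorem c7 : l0c 3 140 115 = 0 := by decide +kernel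
theorem c8 : l0c 4 0 144 = 0 := by decide +kernel
theorem c9 : l0c 4 144 111 = 0 := by decide +kernel
theorem c10 : l0c 5 0 144 = 0 := by decide +kernel
theorem c11 : l0c 5 144 111 = 0 := by decide +kernel
theorem c12 : l0c 6 0 143 = 0 := by decide +kernel
theorem c13 : l0c 6 143 112 = 0 := by decide +kernel
theorem c14 : l0c 7 0 143 = 0 := by decide +kernel
theorem c15 : l0c 7 143 112 = 0 := by decide +kernel
theorem c16 : l0c 8 0 136 = 0 := by decide +kernel
theorem c17 : l0c 8 136 119 = 0 := by decide +kernel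
theorem c18 : l0c 9 0 138 = 0 := by decide +kernel
theorem c19 : l0c 9 138 117 = 0 := by decide +kernel
theorem c20 : l0c 10 0 151 = 0 := by decide +kernel
theorem c21 : l0c 10 151 104 = 0 := by decide +kernel
theorem c22 : l0m 31671 8581 = 0 := by decide +kernel
theorem c23 : l1c 0 0 127 = 0 := by decide +kernel
theorem c24 : l1c 1 0 127 = 0 := by decide +kernel
theorem c25 : l1c 2 0 127 = 0 := by decide +kernel
theorem c26 : l1c 3 0 127 = 0 := by decide +kernel
theorem c27 : l1c 4 0 127 = 0 := by decide +kernel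
theorem c28 : l1c 5 0 127 = 0 := by decide +kernel
theorem c29 : l1c 6 0 127 = 0 := by decide +kernel
theorem c30 : l1c 7 0 127 = 0 := by decide +kernel
theorem c31 : l1c 8 0 127 = 0 := by decide +kernel
theorem c32 : l1c 9 0 127 = 0 := by decide +kernel
theorem c33 : l1c 10 0 127 = 0 := by decide +kernel
theorem c34 : l1m 14080 2121 = 0 := by decide +kernel
theorem c35 : orR l2f 0 11 = 0 := by decide +kernel
theorem c36 : l2m 728 1057 = 0 := by decide +kernel
theorem c37 : orR l3f 0 11 = 0 := by decide +kernel
theorem c38 : l3m 243 312 = 0 := by decide +kernel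
theorem c39 : orR l4f 0 11 = 0 := by decide +kernel
theorem c40 : l4m 27 0 = 0 := by decide +kernel
theorem c41 : orR l5f 0 11 = 0 := by decide +kernel
theorem c42 : l5m 16 0 = 0 := by decide +kernel
theorem c43 : orR l6f 0 11 = 0 := by decide +kernel
theorem c44 : l6m 120 0 = 0 := by decide +kernel

end Cfsg.Agent.TCX.Fi23
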