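import Cfsg.Agent.Lib.TCX.Fi23.D0

set_option autoImplicit false
set_option maxRecDepth 100000
set_option Elab.async false

namespace Cfsg.Agent.TCX.Fi23

noncomputable def l0t0 : Bt Nat := (.node (.node l0t0_0 l0t0_2) (.node l0t0_1 l0t0_3))
noncomputable def l0t1 : Bt Nat := (.node (.node l0t1_0 l0t1_2) (.node l0t1_1 l0t1_3))
noncomputable def l0t2 : Bt Nat := (.node (.node l0t2_0 l0t2_2) (.node l0t2_1 l0t2_3))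
noncomputable def l0t3 : Bt Nat := (.node (.node l0t3_0 l0t3_2) (.node l0t3_1 l0t3_3))
noncomputable def l0t4 : Bt Nat := (.node (.node l0t4_0 l0t4_2) (.node l0t4_1 l0t4_3))
noncomputable def l0t5 : Bt Nat := (.node (.node l0t5_0 l0t5_2) (.node l0t5_1 l0t5_3))
noncomputable def l0t6 : Bt Nat := (.node (.node l0t6_0 l0t6_2) (.node l0t6_1 l0t6_3))
noncomputable def l0t7 : Bt Nat := (.node (.node l0t7_0 l0t7_2) (.node l0t7_1 l0t7_3))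
noncomputable def l0t8 : Bt Nat := (.node (.node l0t8_0 l0t8_2) (.node l0t8_1 l0t8_3))
noncomputable def l0t9 : Bt Nat := (.node (.node l0t9_0 l0t9_2) (.node l0t9_1 l0t9_3))
noncomputable def l0t10 : Bt Nat := (.node (.node l0t10_0 l0t10_2) (.node l0t10_1 l0t10_3))
noncomputable def l0t11 : Bt Nat := (.node (.node l0t11_0 l0t11_2) (.node l0t11_1 l0t11_3))
noncomputable def l0r0 : Bt Ru := (.node (.node (.node (.node (.leaf ⟨[7,0,7],0,0⟩) (.leaf ⟨[0],53,0⟩)) (.node (.leaf ⟨[3,0,3],33,0⟩) (.leaf ⟨[0],53,0⟩))) (.node (.node (.leaf ⟨[5,0,5],18,0⟩) (.leaf ⟨[8,5,4,3,2,1,0,8,5,4,3,2,1,0,8,5,4,3,2,1,0,8,5,4,3,2,1,0,8,5,4,3,2,1,0,8,5,4,3,2,1,0,8,5,4,3,2,1,0,8,5,4,3,2,1,0,8,5,4,3,2,1],55,62⟩)) (.node (.leaf ⟨[8,0,8],42,0⟩) (.leaf ⟨[0],53,0⟩))))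 (.node (.node (.node (.leaf ⟨[6,0,6],9,0⟩) (.leaf ⟨[1,0,1,0,1],54,0⟩)) (.node (.leaf ⟨[2,0,2],38,0⟩) (.leaf ⟨[0],53,0⟩))) (.node (.node (.leaf ⟨[4,0,4],26,0⟩) (.leaf ⟨[0],53,0⟩)) (.node (.leaf ⟨[9,0,9],50,0⟩) (.leaf ⟨[0],53,0⟩)))))
noncomputable def l0r1 : Bt Ru := (.node (.node (.node (.node (.leaf ⟨[7,1,7],1,0⟩) (.leaf ⟨[0,1,0,1,0],54,5⟩)) (.node (.leaf ⟨[3,1,3],34,0⟩) (.leaf ⟨[1],46,0⟩))) (.node (.node (.leaf ⟨[5,1,5],19,0⟩) (.leaf ⟨[1],46,0⟩)) (.node (.leaf ⟨[1],46,0⟩) (.leaf ⟨[1],46,0⟩)))) (.node (.node (.node (.leaf ⟨[6,1,6],10,0⟩) (.leaf ⟨[2,1,2,1,2],47,0⟩)) (.node (.leaf ⟨[8,1,8],43,0⟩) (.leaf ⟨[1],46,0⟩))) (.node (.node (.leaf ⟨[4,1,4],27,0⟩) (.leaf ⟨[1],46,0⟩)) (.node (.leaf ⟨[9,1,9],48,0⟩) (.leaf ⟨[1],46,0⟩)))))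
noncomputable def l0r2 : Bt Ru := (.node (.node (.node (.node (.leaf ⟨[7,2,7],2,0⟩) (.leaf ⟨[3,2,3,2,3],40,0⟩)) (.node (.leaf ⟨[2],39,0⟩) (.leaf ⟨[2],39,0⟩))) (.node (.node (.leaf ⟨[5,2,5],20,0⟩) (.leaf ⟨[1,3,4,5,3,8,9,3,2,1,3,4,5,3,8,9,3,2,1,3,4,5,3,8,9,3,2,1,3,4,5,3,8,9,3,2,1,3,4,5,3,8,9,3,2,1,3,4,5,3,8,9,3,2,1,3,4,5,3,8,9,3,2,1,3,4,5,3,8,9,3,2,1,3,4,5,3,8,9,3,2,1,3,4,5,3,8,9,3],57,82⟩)) (.node (.leaf ⟨[8,2,8],49,0⟩) (.leaf ⟨[2],39,0⟩)))) (.node (.node (.node (.leaf ⟨[6,2,6],11,0⟩) (.leaf ⟨[9,2,9],41,0⟩)) (.node (.leaf ⟨[1,2,1,2,1],47,5⟩) (.leaf ⟨[2],39,0⟩))) (.node (.node (.leaf ⟨[4,2,4],28,0⟩) (.leaf ⟨[2],39,0⟩)) (.node (.leaf ⟨[0,2,0],38,3⟩) (.leaf ⟨[2],39,0⟩)))))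
noncomputable def l0r3 : Bt Ru := (.node (.node (.node (.node (.leaf ⟨[7,3,7],3,0⟩) (.leaf ⟨[0,3,0],33,3⟩)) (.node (.leaf ⟨[2,3,2,3,2],40,5⟩) (.leaf ⟨[3],35,0⟩))) (.node (.node (.leaf ⟨[5,3,5],21,0⟩) (.leaf ⟨[2,1,0,8,5,4,3,2,1,0,8,5,4,3,2,1,0,8,5,4,3,2,1,0,8,5,4,3,2,1,0,8,5,4,3,2,1,0,8,5,4,3,2,1,0,8,5,4,3,2,1,0,8,5,4,3,2,1,0,8,5,4],55,59⟩)) (.node (.leaf ⟨[1,3,1],34,3⟩) (.leaf ⟨[3],35,0⟩)))) (.node (.node (.node (.leaf ⟨[6,3,6],12,0⟩) (.leaf ⟨[4,3,4,3,4],36,0⟩)) (.node (.leaf ⟨[8,3,8,3,8],44,0⟩) (.leaf ⟨[3],35,0⟩))) (.node (.node (.leaf ⟨[3],35,0⟩) (.leaf ⟨[3],35,0⟩)) (.node (.leaf ⟨[9,3,9],37,0⟩) (.leaf ⟨[3],35,0⟩)))))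
noncomputable def l0r4 : Bt Ru := (.node (.node (.node (.node (.leaf ⟨[7,4,7],4,0⟩) (.leaf ⟨[0,4,0],26,3⟩)) (.node (.leaf ⟨[2,4,2],28,3⟩) (.leaf ⟨[4],29,0⟩))) (.node (.node (.leaf ⟨[4],29,0⟩) (.leaf ⟨[3,2,1,0,8,5,4,3,2,1,0,8,5,4,3,2,1,0,8,5,4,3,2,1,0,8,5,4,3,2,1,0,8,5,4,3,2,1,0,8,5,4,3,2,1,0,8,5,4,3,2,1,0,8,5,4,3,2,1,0,8,5],55,58⟩)) (.node (.leaf ⟨[1,4,1],27,3⟩) (.leaf ⟨[4],29,0⟩)))) (.node (.node (.node (.leaf ⟨[6,4,6],13,0⟩) (.leaf ⟨[5,4,5,4,5],30,0⟩)) (.node (.leaf ⟨[8,4,8],31,0⟩) (.leaf ⟨[4],29,0⟩))) (.node (.node (.leaf ⟨[3,4,3,4,3],36,5⟩) (.leaf ⟨[5,8,0,1,2,3,4,5,8,0,1,2,3,4,5,8,0,1,2,3,4,5,8,0,1,2,3,4,5,8,0,1,2,3,4,5,8,0,1,2,3,4,5,8,0,1,2,3,4,5,8,0,1,2,3,4,5,8,0,1,2,3],56,60⟩)) (.node (.leaf ⟨[9,4,9],32,0⟩) (.leaf ⟨[4],29,0⟩)))))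
noncomputable def l0r5 : Bt Ru := (.node (.node (.node (.node (.leaf ⟨[7,5,7],5,0⟩) (.leaf ⟨[0,5,0],18,3⟩)) (.node (.leaf ⟨[2,5,2],20,3⟩) (.leaf ⟨[5],22,0⟩))) (.node (.node (.leaf ⟨[4,5,4,5,4],30,5⟩) (.leaf ⟨[3,8,9,3,2,1,3,4,5,3,8,9,3,2,1,3,4,5,3,8,9,3,2,1,3,4,5,3,8,9,3,2,1,3,4,5,3,8,9,3,2,1,3,4,5,3,8,9,3,2,1,3,4,5,3,8,9,3,2,1,3,4,5,3,8,9,3,2,1,3,4,5,3,8,9,3,2,1,3,4,5,3,8,9,3,2,1,3,4],57,86⟩)) (.node (.leaf ⟨[1,5,1],19,3⟩) (.leaf ⟨[5],22,0⟩)))) (.node (.node (.node (.leaf ⟨[5],22,0⟩) (.leaf ⟨[6,5,6,5,6],23,0⟩)) (.node (.leaf ⟨[8,5,8],24,3⟩) (.leaf ⟨[5],22,0⟩))) (.node (.node (.leaf ⟨[3,5,3],21,3⟩) (.leaf ⟨[5],22,0⟩)) (.node (.leaf ⟨[9,5,9],25,0⟩) (.leaf ⟨[5],22,0⟩)))))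
noncomputable def l0r6 : Bt Ru := (.node (.node (.node (.node (.leaf ⟨[6],14,0⟩) (.leaf ⟨[0,6,0],9,3⟩)) (.node (.leaf ⟨[2,6,2],11,3⟩) (.leaf ⟨[6],14,0⟩))) (.node (.node (.leaf ⟨[4,6,4],13,3⟩) (.leaf ⟨[6],14,0⟩)) (.node (.leaf ⟨[1,6,1],10,3⟩) (.leaf ⟨[6],14,0⟩)))) (.node (.node (.node (.leaf ⟨[5,6,5,6,5],23,5⟩) (.leaf ⟨[7,6,7,6,7],15,0⟩)) (.node (.leaf ⟨[8,6,8],16,3⟩) (.leaf ⟨[6],14,0⟩))) (.node (.node (.leaf ⟨[3,6,3],12,3⟩) (.leaf ⟨[6],14,0⟩)) (.node (.leaf ⟨[9,6,9],17,0⟩) (.leaf ⟨[6],14,0⟩)))))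
noncomputable def l0r7 : Bt Ru := (.node (.node (.node (.node (.leaf ⟨[7],6,0⟩) (.leaf ⟨[9,7,9],8,0⟩)) (.node (.leaf ⟨[3,7,3],3,3⟩) (.leaf ⟨[7],6,0⟩))) (.node (.node (.leaf ⟨[5,7,5],5,3⟩) (.leaf ⟨[7],6,0⟩)) (.node (.leaf ⟨[8,7,8],7,3⟩) (.leaf ⟨[7],6,0⟩)))) (.node (.node (.node (.leaf ⟨[6,7,6,7,6],15,5⟩) (.leaf ⟨[0,7,0],0,3⟩)) (.node (.leaf ⟨[2,7,2],2,3⟩) (.leaf ⟨[7],6,0⟩))) (.node (.node (.leaf ⟨[4,7,4],4,3⟩) (.leaf ⟨[7],6,0⟩)) (.node (.leaf ⟨[1,7,1],1,3⟩) (.leaf ⟨[7],6,0⟩)))))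
noncomputable def l0r8 : Bt Ru := (.node (.node (.node (.node (.leaf ⟨[7,8,7],7,0⟩) (.leaf ⟨[1,8,1],43,3⟩)) (.node (.leaf ⟨[8],45,0⟩) (.leaf ⟨[8],45,0⟩))) (.node (.node (.leaf ⟨[5,8,5],24,0⟩) (.leaf ⟨[8],45,0⟩)) (.node (.leaf ⟨[3,8,3,8,3],44,5⟩) (.leaf ⟨[8],45,0⟩)))) (.node (.node (.node (.leaf ⟨[6,8,6],16,0⟩) (.leaf ⟨[0,8,0],42,3⟩)) (.node (.leaf ⟨[9,8,9,8,9],51,0⟩) (.leaf ⟨[8],45,0⟩))) (.node (.node (.leaf ⟨[4,8,4],31,3⟩) (.leaf ⟨[8],45,0⟩)) (.node (.leaf ⟨[2,8,2],49,3⟩) (.leaf ⟨[8],45,0⟩)))))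
noncomputable def l0r9 : Bt Ru := (.node (.node (.node (.node (.leaf ⟨[7,9,7],8,3⟩) (.leaf ⟨[0,9,0],50,3⟩)) (.node (.leaf ⟨[3,9,3],37,3⟩) (.leaf ⟨[9],52,0⟩))) (.node (.node (.leaf ⟨[5,9,5],25,3⟩) (.leaf ⟨[9],52,0⟩)) (.node (.leaf ⟨[1,9,1],48,3⟩) (.leaf ⟨[9],52,0⟩)))) (.node (.node (.node (.leaf ⟨[6,9,6],17,3⟩) (.leaf ⟨[8,9,8,9,8],51,5⟩)) (.node (.leaf ⟨[2,9,2],41,3⟩) (.leaf ⟨[9],52,0⟩))) (.node (.node (.leaf ⟨[4,9,4],32,3⟩) (.leaf ⟨[9],52,0⟩)) (.node (.leaf ⟨[9],52,0⟩) (.leaf ⟨[9],52,0⟩)))))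
noncomputable def l0r10 : Bt Ru := (.node (.node (.node (.node (.node (.node (.leaf ⟨[7,4,7,4],4,3⟩) (.leaf ⟨[1,8,1,8],43,0⟩)) (.node (.leaf ⟨[6,1,6,1],10,3⟩) (.leaf ⟨[0,0],53,0⟩))) (.node (.node (.leaf ⟨[7,0,7,0],0,3⟩) (.leaf ⟨[3,0,3,0],33,3⟩)) (.node (.leaf ⟨[8,0,1,2,3,4,5,8,0,1,2,3,4,5,8,0,1,2,3,4,5,8,0,1,2,3,4,5,8,0,1,2,3,4,5,8,0,1,2,3,4,5,8,0,1,2,3,4,5,8,0,1,2,3,4,5,8,0,1,2,3,4,5],56,62⟩) (.leaf ⟨[0,0],53,0⟩)))) (.node (.node (.node (.leaf ⟨[5,9,5,9],25,0⟩) (.leaf ⟨[9,1,9,1],48,3⟩)) (.node (.leaf ⟨[2,8,2,8],49,0⟩) (.leaf ⟨[0,0],53,0⟩))) (.node (.node (.leaf ⟨[6,2,6,2],11,3⟩) (.leaf ⟨[0,0],53,0⟩)) (.node (.leaf ⟨[0,6,0,6],9,0⟩) (.leaf ⟨[0,0],53,0⟩))))) (.node (.node (.node (.node (.leaf ⟨[4,6,4,6],13,0⟩) (.leaf ⟨[1,6,1,6],10,0⟩))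 (.node (.leaf ⟨[2,4,2,4],28,0⟩) (.leaf ⟨[0,0],53,0⟩))) (.node (.node (.leaf ⟨[3,6,3,6],12,0⟩) (.leaf ⟨[0,0],53,0⟩)) (.node (.leaf ⟨[5,1,5,1],19,3⟩) (.leaf ⟨[0,0],53,0⟩)))) (.node (.node (.node (.leaf ⟨[0,1,2,3,4,5,8,0,1,2,3,4,5,8,0,1,2,3,4,5,8,0,1,2,3,4,5,8,0,1,2,3,4,5,8,0,1,2,3,4,5,8,0,1,2,3,4,5,8,0,1,2,3,4,5,8,0,1,2,3,4,5,8],56,0⟩) (.leaf ⟨[9,3,2,1,3,4,5,3,8,9,3,2,1,3,4,5,3,8,9,3,2,1,3,4,5,3,8,9,3,2,1,3,4,5,3,8,9,3,2,1,3,4,5,3,8,9,3,2,1,3,4,5,3,8,9,3,2,1,3,4,5,3,8,9,3,2,1,3,4,5,3,8,9,3,2,1,3,4,5,3,8,9,3,2,1,3,4,5,3,8],57,89⟩)) (.node (.leaf ⟨[2,9,2,9],41,0⟩) (.leaf ⟨[0,0],53,0⟩))) (.node (.node (.leaf ⟨[3,1,3,1],34,3⟩) (.leaf ⟨[0,0],53,0⟩)) (.node (.leaf ⟨[2,0,2,0],38,3⟩) (.leaf ⟨[0,0],53,0⟩)))))) (.node (.node (.node (.node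 (.node (.leaf ⟨[6,3,6,3],12,3⟩) (.leaf ⟨[1,3,1,3],34,0⟩)) (.node (.leaf ⟨[5,7,5,7],5,0⟩) (.leaf ⟨[0,0],53,0⟩))) (.node (.node (.leaf ⟨[2,7,2,7],2,0⟩) (.leaf ⟨[0,0],53,0⟩)) (.node (.leaf ⟨[7,3,7,3],3,3⟩) (.leaf ⟨[0,0],53,0⟩)))) (.node (.node (.node (.leaf ⟨[5,3,5,3],21,3⟩) (.leaf ⟨[0,4,0,4],26,0⟩)) (.node (.leaf ⟨[9,7,9,7],8,3⟩) (.leaf ⟨[0,0],53,0⟩))) (.node (.node (.leaf ⟨[4,7,4,7],4,0⟩) (.leaf ⟨[0,0],53,0⟩)) (.node (.leaf ⟨[4,0,4,0],26,3⟩) (.leaf ⟨[0,0],53,0⟩))))) (.node (.node (.node (.node (.leaf ⟨[5,8,5,8],24,3⟩) (.leaf ⟨[0,8,0,8],42,0⟩)) (.node (.leaf ⟨[3,5,3,5],21,0⟩) (.leaf ⟨[0,0],53,0⟩))) (.node (.node (.leaf ⟨[7,5,7,5],5,3⟩) (.leaf ⟨[0,0],53,0⟩)) (.node (.leaf ⟨[0,2,0,2],38,0⟩) (.leaf ⟨[0,0],53,0⟩)))) (.node (.node (.node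 (.leaf ⟨[2,5,2,5],20,0⟩) (.leaf ⟨[2,1,0,8,5,4,3,2,1,0,8,5,4,3,2,1,0,8,5,4,3,2,1,0,8,5,4,3,2,1,0,8,5,4,3,2,1,0,8,5,4,3,2,1,0,8,5,4,3,2,1,0,8,5,4,3,2,1,0,8,5,4,3],55,60⟩)) (.node (.leaf ⟨[2,6,2,6],11,0⟩) (.leaf ⟨[0,0],53,0⟩))) (.node (.node (.leaf ⟨[7,9,7,9],8,0⟩) (.leaf ⟨[0,0],53,0⟩)) (.node (.leaf ⟨[4,2,4,2],28,3⟩) (.leaf ⟨[0,0],53,0⟩)))))))
noncomputable def l1t0 : Bt Nat := (.node l1t0_0 l1t0_1)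
noncomputable def l1t1 : Bt Nat := (.node l1t1_0 l1t1_1)
noncomputable def l1t2 : Bt Nat := (.node l1t2_0 l1t2_1)
noncomputable def l1t3 : Bt Nat := (.node l1t3_0 l1t3_1)
noncomputable def l1t4 : Bt Nat := (.node l1t4_0 l1t4_1)
noncomputable def l1t5 : Bt Nat := (.node l1t5_0 l1t5_1)
noncomputable def l1t6 : Bt Nat := (.node l1t6_0 l1t6_1)
noncomputable def l1t8 : Bt Nat := (.node l1t8_0 l1t8_1)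
noncomputable def l1t9 : Bt Nat := (.node l1t9_0 l1t9_1)
noncomputable def l1t10 : Bt Nat := (.node l1t10_0 l1t10_1)
noncomputable def l1t11 : Bt Nat := (.node l1t11_0 l1t11_1)
noncomputable def l1r0 : Bt Ru := (.node (.node (.node (.node (.leaf ⟨[0],53,0⟩) (.leaf ⟨[6,0,6],9,0⟩)) (.node (.leaf ⟨[4,0,4],26,0⟩) (.leaf ⟨[0],53,0⟩))) (.node (.node (.leaf ⟨[2,0,2],38,0⟩) (.leaf ⟨[0],53,0⟩)) (.node (.leaf ⟨[5,0,5],18,0⟩) (.leaf ⟨[0],53,0⟩)))) (.node (.node (.node (.leaf ⟨[1,0,1,0,1],54,0⟩) (.leaf ⟨[0],53,0⟩)) (.node (.leaf ⟨[3,0,3],33,0⟩) (.leaf ⟨[0],53,0⟩))) (.node (.node (.leaf ⟨[8,0,8],42,0⟩) (.leaf ⟨[0],53,0⟩)) (.node (.leaf ⟨[9,0,9],50,0⟩) (.leaf ⟨[0],53,0⟩)))))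
noncomputable def l1r1 : Bt Ru := (.node (.node (.node (.node (.leaf ⟨[1],46,0⟩) (.leaf ⟨[2,1,2,1,2],47,0⟩)) (.node (.leaf ⟨[5,1,5],19,0⟩) (.leaf ⟨[1],46,0⟩))) (.node (.node (.leaf ⟨[3,1,3],34,0⟩) (.leaf ⟨[1],46,0⟩)) (.node (.leaf ⟨[9,1,9],48,0⟩) (.leaf ⟨[1],46,0⟩)))) (.node (.node (.node (.leaf ⟨[8,1,8],43,0⟩) (.leaf ⟨[1],46,0⟩)) (.node (.leaf ⟨[4,1,4],27,0⟩) (.leaf ⟨[1],46,0⟩))) (.node (.node (.leaf ⟨[0,1,0,1,0],54,5⟩) (.leaf ⟨[1],46,0⟩)) (.node (.leaf ⟨[6,1,6],10,0⟩) (.leaf ⟨[1],46,0⟩)))))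
noncomputable def l1r2 : Bt Ru := (.node (.node (.node (.node (.leaf ⟨[0,2,0],38,3⟩) (.leaf ⟨[3,2,3,2,3],40,0⟩)) (.node (.leaf ⟨[1,2,1,2,1],47,5⟩) (.leaf ⟨[2],39,0⟩))) (.node (.node (.leaf ⟨[8,2,8],49,0⟩) (.leaf ⟨[3,9,8,3,5,4,3,1,2,3,9,8,3,5,4,3,1,2,3,9,8,3,5,4,3,1,2,3,9,8,3,5,4,3,1,2,3,9,8,3,5,4,3,1,2,3,9,8,3,5,4,3,1,2,3,9,8,3,5,4,3,1,2,3,9,8,3,5,4,3,1,2,3,9,8,3,5,4,3,1,2,3,9,8,3,5,4,3,1],58,88⟩)) (.node (.leaf ⟨[9,2,9],41,0⟩) (.leaf ⟨[2],39,0⟩)))) (.node (.node (.node (.leaf ⟨[2],39,0⟩) (.leaf ⟨[1,3,4,5,3,8,9,3,2,1,3,4,5,3,8,9,3,2,1,3,4,5,3,8,9,3,2,1,3,4,5,3,8,9,3,2,1,3,4,5,3,8,9,3,2,1,3,4,5,3,8,9,3,2,1,3,4,5,3,8,9,3,2,1,3,4,5,3,8,9,3,2,1,3,4,5,3,8,9,3,2,1,3,4,5,3,8,9,3],57,82⟩)) (.node (.leaf ⟨[5,2,5],20,0⟩) (.leaf ⟨[2],39,0⟩)))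 (.node (.node (.leaf ⟨[4,2,4],28,0⟩) (.leaf ⟨[3,4,5,8,0,1,2,3,4,5,8,0,1,2,3,4,5,8,0,1,2,3,4,5,8,0,1,2,3,4,5,8,0,1,2,3,4,5,8,0,1,2,3,4,5,8,0,1,2,3,4,5,8,0,1,2,3,4,5,8,0,1],56,58⟩)) (.node (.leaf ⟨[6,2,6],11,0⟩) (.leaf ⟨[2],39,0⟩)))))
noncomputable def l1r3 : Bt Ru := (.node (.node (.node (.node (.leaf ⟨[0,3,0],33,3⟩) (.leaf ⟨[6,3,6],12,0⟩)) (.node (.leaf ⟨[2,3,2,3,2],40,5⟩) (.leaf ⟨[3],35,0⟩))) (.node (.node (.leaf ⟨[3],35,0⟩) (.leaf ⟨[3],35,0⟩)) (.node (.leaf ⟨[4,3,4,3,4],36,0⟩) (.leaf ⟨[3],35,0⟩)))) (.node (.node (.node (.leaf ⟨[1,3,1],34,3⟩) (.leaf ⟨[4,5,8,0,1,2,3,4,5,8,0,1,2,3,4,5,8,0,1,2,3,4,5,8,0,1,2,3,4,5,8,0,1,2,3,4,5,8,0,1,2,3,4,5,8,0,1,2,3,4,5,8,0,1,2,3,4,5,8,0,1,2],56,59⟩)) (.node (.leaf ⟨[5,3,5],21,0⟩) (.leaf ⟨[3],35,0⟩)))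 (.node (.node (.leaf ⟨[8,3,8,3,8],44,0⟩) (.leaf ⟨[3],35,0⟩)) (.node (.leaf ⟨[9,3,9],37,0⟩) (.leaf ⟨[3],35,0⟩)))))
noncomputable def l1r4 : Bt Ru := (.node (.node (.node (.node (.leaf ⟨[0,4,0],26,3⟩) (.leaf ⟨[6,4,6],13,0⟩)) (.node (.leaf ⟨[3,4,3,4,3],36,5⟩) (.leaf ⟨[4],29,0⟩))) (.node (.node (.leaf ⟨[2,4,2],28,3⟩) (.leaf ⟨[4],29,0⟩)) (.node (.leaf ⟨[8,4,8],31,0⟩) (.leaf ⟨[4],29,0⟩)))) (.node (.node (.node (.leaf ⟨[1,4,1],27,3⟩) (.leaf ⟨[3,2,1,0,8,5,4,3,2,1,0,8,5,4,3,2,1,0,8,5,4,3,2,1,0,8,5,4,3,2,1,0,8,5,4,3,2,1,0,8,5,4,3,2,1,0,8,5,4,3,2,1,0,8,5,4,3,2,1,0,8,5],55,58⟩)) (.node (.leaf ⟨[5,4,5,4,5],30,0⟩) (.leaf ⟨[4],29,0⟩))) (.node (.node (.leaf ⟨[4],29,0⟩) (.leaf ⟨[4],29,0⟩)) (.node (.leaf ⟨[9,4,9],32,0⟩) (.leaf ⟨[4],29,0⟩)))))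
noncomputable def l1r5 : Bt Ru := (.node (.node (.node (.node (.leaf ⟨[0,5,0],18,3⟩) (.leaf ⟨[8,5,8],24,3⟩)) (.node (.leaf ⟨[5],22,0⟩) (.leaf ⟨[5],22,0⟩))) (.node (.node (.leaf ⟨[2,5,2],20,3⟩) (.leaf ⟨[5],22,0⟩)) (.node (.leaf ⟨[9,5,9],25,0⟩) (.leaf ⟨[5],22,0⟩)))) (.node (.node (.node (.leaf ⟨[1,5,1],19,3⟩) (.leaf ⟨[5],22,0⟩)) (.node (.leaf ⟨[4,5,4,5,4],30,5⟩) (.leaf ⟨[5],22,0⟩))) (.node (.node (.leaf ⟨[3,5,3],21,3⟩) (.leaf ⟨[5],22,0⟩)) (.node (.leaf ⟨[6,5,6,5,6],23,0⟩) (.leaf ⟨[5],22,0⟩)))))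
noncomputable def l1r6 : Bt Ru := (.node (.node (.node (.node (.leaf ⟨[0,6,0],9,3⟩) (.leaf ⟨[5,6,5,6,5],23,5⟩)) (.node (.leaf ⟨[8,6,8],16,3⟩) (.leaf ⟨[6],14,0⟩))) (.node (.node (.leaf ⟨[2,6,2],11,3⟩) (.leaf ⟨[6],14,0⟩)) (.node (.leaf ⟨[9,6,9],17,0⟩) (.leaf ⟨[6],14,0⟩)))) (.node (.node (.node (.leaf ⟨[1,6,1],10,3⟩) (.leaf ⟨[6],14,0⟩)) (.node (.leaf ⟨[4,6,4],13,3⟩) (.leaf ⟨[6],14,0⟩))) (.node (.node (.leaf ⟨[3,6,3],12,3⟩) (.leaf ⟨[6],14,0⟩)) (.node (.leaf ⟨[6],14,0⟩) (.leaf ⟨[6],14,0⟩)))))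
noncomputable def l1r7 : Bt Ru := (.leaf ⟨[7],6,0⟩)
noncomputable def l1r8 : Bt Ru := (.node (.node (.node (.node (.leaf ⟨[0,8,0],42,3⟩) (.leaf ⟨[6,8,6],16,0⟩)) (.node (.leaf ⟨[4,8,4],31,3⟩) (.leaf ⟨[8],45,0⟩))) (.node (.node (.leaf ⟨[2,8,2],49,3⟩) (.leaf ⟨[8],45,0⟩)) (.node (.leaf ⟨[5,8,5],24,0⟩) (.leaf ⟨[8],45,0⟩)))) (.node (.node (.node (.leaf ⟨[1,8,1],43,3⟩) (.leaf ⟨[8],45,0⟩)) (.node (.leaf ⟨[3,8,3,8,3],44,5⟩) (.leaf ⟨[8],45,0⟩))) (.node (.node (.leaf ⟨[8],45,0⟩) (.leaf ⟨[8],45,0⟩)) (.node (.leaf ⟨[9,8,9,8,9],51,0⟩) (.leaf ⟨[8],45,0⟩)))))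
noncomputable def l1r9 : Bt Ru := (.node (.node (.node (.node (.leaf ⟨[0,9,0],50,3⟩) (.leaf ⟨[8,9,8,9,8],51,5⟩)) (.node (.leaf ⟨[5,9,5],25,3⟩) (.leaf ⟨[9],52,0⟩))) (.node (.node (.leaf ⟨[2,9,2],41,3⟩) (.leaf ⟨[9],52,0⟩)) (.node (.leaf ⟨[9],52,0⟩) (.leaf ⟨[9],52,0⟩)))) (.node (.node (.node (.leaf ⟨[1,9,1],48,3⟩) (.leaf ⟨[9],52,0⟩)) (.node (.leaf ⟨[4,9,4],32,3⟩) (.leaf ⟨[9],52,0⟩))) (.node (.node (.leaf ⟨[3,9,3],37,3⟩) (.leaf ⟨[9],52,0⟩)) (.node (.leaf ⟨[6,9,6],17,3⟩) (.leaf ⟨[9],52,0⟩)))))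
noncomputable def l1r10 : Bt Ru := (.node (.node (.node (.node (.node (.leaf ⟨[1,2,1,2,1,2],47,0⟩) (.leaf ⟨[3,8,9,3,2,1,3,4,5,3,8,9,3,2,1,3,4,5,3,8,9,3,2,1,3,4,5,3,8,9,3,2,1,3,4,5,3,8,9,3,2,1,3,4,5,3,8,9,3,2,1,3,4,5,3,8,9,3,2,1,3,4,5,3,8,9,3,2,1,3,4,5,3,8,9,3,2,1,3,4,5,3,8,9,3,2,1,3,4,5],57,87⟩)) (.node (.leaf ⟨[6,0,6,0],9,3⟩) (.leaf ⟨[0,0],53,0⟩))) (.node (.node (.leaf ⟨[8,0,8,0],42,3⟩) (.leaf ⟨[2,0,2,0],38,3⟩)) (.node (.leaf ⟨[5,1,5,1],19,3⟩) (.leaf ⟨[0,0],53,0⟩)))) (.node (.node (.node (.leaf ⟨[1,3,1,3],34,0⟩) (.leaf ⟨[2,5,2,5],20,0⟩)) (.node (.leaf ⟨[5,0,5,0],18,3⟩) (.leaf ⟨[0,0],53,0⟩))) (.node (.node (.leaf ⟨[8,1,8,1],43,3⟩) (.leaf ⟨[9,0,9,0],50,3⟩)) (.node (.leaf ⟨[6,3,6,3],12,3⟩) (.leaf ⟨[0,0],53,0⟩))))) (.node (.node (.node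 (.node (.leaf ⟨[2,3,2,3,2,3],40,0⟩) (.leaf ⟨[1,4,1,4],27,0⟩)) (.node (.leaf ⟨[6,1,6,1],10,3⟩) (.leaf ⟨[0,0],53,0⟩))) (.node (.node (.leaf ⟨[4,8,4,8],31,0⟩) (.leaf ⟨[4,0,4,0],26,3⟩)) (.node (.leaf ⟨[6,2,6,2],11,3⟩) (.leaf ⟨[0,0],53,0⟩)))) (.node (.node (.node (.leaf ⟨[5,8,5,8],24,3⟩) (.leaf ⟨[9,2,9,2],41,3⟩)) (.node (.leaf ⟨[5,2,5,2],20,3⟩) (.leaf ⟨[0,0],53,0⟩))) (.node (.node (.leaf ⟨[4,5,4,5,4,5],30,0⟩) (.leaf ⟨[9,1,9,1],48,3⟩)) (.node (.leaf ⟨[5,3,5,3],21,3⟩) (.leaf ⟨[0,0],53,0⟩))))))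
noncomputable def l2r0 : Bt Ru := (.leaf ⟨[0],53,0⟩)
noncomputable def l2r1 : Bt Ru := (.node (.node (.node (.leaf ⟨[6,1,6],10,0⟩) (.leaf ⟨[8,1,8],43,0⟩)) (.node (.leaf ⟨[4,1,4],27,0⟩) (.leaf ⟨[9,1,9],48,0⟩))) (.node (.node (.leaf ⟨[5,1,5],19,0⟩) (.leaf ⟨[1],46,0⟩)) (.node (.leaf ⟨[3,1,3],34,0⟩) (.leaf ⟨[2,1,2,1,2],47,0⟩))))
noncomputable def l2r2 : Bt Ru := (.node (.node (.node (.leaf ⟨[6,2,6],11,0⟩) (.leaf ⟨[8,2,8],49,0⟩)) (.node (.leaf ⟨[4,2,4],28,0⟩) (.leaf ⟨[3,2,3,2,3],40,0⟩))) (.node (.node (.leaf ⟨[5,2,5],20,0⟩) (.leaf ⟨[1,2,1,2,1],47,5⟩)) (.node (.leaf ⟨[2],39,0⟩) (.leaf ⟨[9,2,9],41,0⟩))))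
noncomputable def l2r3 : Bt Ru := (.node (.node (.node (.node (.leaf ⟨[6,3,6],12,0⟩) (.leaf ⟨[1,2,3,9,8,3,5,4,3,1,2,3,9,8,3,5,4,3,1,2,3,9,8,3,5,4,3,1,2,3,9,8,3,5,4,3,1,2,3,9,8,3,5,4,3,1,2,3,9,8,3,5,4,3,1,2,3,9,8,3,5,4,3,1,2,3,9,8,3,5,4,3,1,2,3,9,8,3,5,4,3,1,2,3,9,8,3,5,4],58,86⟩)) (.node (.leaf ⟨[8,3,8,3,8],44,0⟩) (.leaf ⟨[3],35,0⟩))) (.node (.node (.leaf ⟨[3],35,0⟩) (.leaf ⟨[3],35,0⟩)) (.node (.leaf ⟨[9,3,9],37,0⟩) (.leaf ⟨[3],35,0⟩)))) (.node (.node (.node (.leaf ⟨[5,3,5],21,0⟩) (.leaf ⟨[3],35,0⟩)) (.node (.leaf ⟨[1,3,1],34,3⟩) (.leaf ⟨[3],35,0⟩))) (.node (.node (.leaf ⟨[2,3,2,3,2],40,5⟩) (.leaf ⟨[3],35,0⟩)) (.node (.leaf ⟨[4,3,4,3,4],36,0⟩) (.leaf ⟨[3],35,0⟩)))))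
noncomputable def l2r4 : Bt Ru := (.node (.node (.node (.leaf ⟨[6,4,6],13,0⟩) (.leaf ⟨[8,4,8],31,0⟩)) (.node (.leaf ⟨[3,4,3,4,3],36,5⟩) (.leaf ⟨[9,4,9],32,0⟩))) (.node (.node (.leaf ⟨[4],29,0⟩) (.leaf ⟨[1,4,1],27,3⟩)) (.node (.leaf ⟨[2,4,2],28,3⟩) (.leaf ⟨[5,4,5,4,5],30,0⟩))))
noncomputable def l2r5 : Bt Ru := (.node (.node (.node (.leaf ⟨[5],22,0⟩) (.leaf ⟨[8,5,8],24,3⟩)) (.node (.leaf ⟨[3,5,3],21,3⟩) (.leaf ⟨[9,5,9],25,0⟩))) (.node (.node (.leaf ⟨[4,5,4,5,4],30,5⟩) (.leaf ⟨[1,5,1],19,3⟩)) (.node (.leaf ⟨[2,5,2],20,3⟩) (.leaf ⟨[6,5,6,5,6],23,0⟩))))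
noncomputable def l2r6 : Bt Ru := (.node (.node (.node (.leaf ⟨[6],14,0⟩) (.leaf ⟨[2,6,2],11,3⟩)) (.node (.leaf ⟨[4,6,4],13,3⟩) (.leaf ⟨[1,6,1],10,3⟩))) (.node (.node (.leaf ⟨[5,6,5,6,5],23,5⟩) (.leaf ⟨[8,6,8],16,3⟩)) (.node (.leaf ⟨[3,6,3],12,3⟩) (.leaf ⟨[9,6,9],17,0⟩))))
noncomputable def l2r7 : Bt Ru := (.leaf ⟨[7],6,0⟩)
noncomputable def l2r8 : Bt Ru := (.node (.node (.node (.leaf ⟨[6,8,6],16,0⟩) (.leaf ⟨[9,8,9,8,9],51,0⟩)) (.node (.leaf ⟨[4,8,4],31,3⟩) (.leaf ⟨[2,8,2],49,3⟩))) (.node (.node (.leaf ⟨[5,8,5],24,0⟩) (.leaf ⟨[3,8,3,8,3],44,5⟩)) (.node (.leaf ⟨[8],45,0⟩) (.leaf ⟨[1,8,1],43,3⟩))))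
noncomputable def l2r9 : Bt Ru := (.node (.node (.node (.leaf ⟨[6,9,6],17,3⟩) (.leaf ⟨[2,9,2],41,3⟩)) (.node (.leaf ⟨[4,9,4],32,3⟩) (.leaf ⟨[9],52,0⟩))) (.node (.node (.leaf ⟨[5,9,5],25,3⟩) (.leaf ⟨[1,9,1],48,3⟩)) (.node (.leaf ⟨[3,9,3],37,3⟩) (.leaf ⟨[8,9,8,9,8],51,5⟩))))
noncomputable def l2r10 : Bt Ru := (.leaf ⟨[3,1,2,3,9,8,3,5,4,3,1,2,3,9,8,3,5,4,3,1,2,3,9,8,3,5,4,3,1,2,3,9,8,3,5,4,3,1,2,3,9,8,3,5,4,3,1,2,3,9,8,3,5,4,3,1,2,3,9,8,3,5,4,3,1,2,3,9,8,3,5,4,3,1,2,3,9,8,3,5,4,3,1,2,3,9,8,3,5,4],58,86⟩)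
noncomputable def l3r0 : Bt Ru := (.leaf ⟨[0],53,0⟩)
noncomputable def l3r1 : Bt Ru := (.node (.node (.node (.leaf ⟨[9,1,9],48,0⟩) (.leaf ⟨[1],46,0⟩)) (.node (.leaf ⟨[3,1,3],34,0⟩) (.leaf ⟨[2,1,2,1,2],47,0⟩))) (.node (.node (.leaf ⟨[8,1,8],43,0⟩) (.leaf ⟨[5,1,5],19,0⟩)) (.node (.leaf ⟨[4,1,4],27,0⟩) (.leaf ⟨[1],46,0⟩))))
noncomputable def l3r2 : Bt Ru := (.node (.node (.node (.leaf ⟨[9,2,9],41,0⟩) (.leaf ⟨[5,2,5],20,0⟩)) (.node (.leaf ⟨[2],39,0⟩) (.leaf ⟨[1,2,1,2,1],47,5⟩))) (.node (.node (.leaf ⟨[8,2,8],49,0⟩) (.leaf ⟨[4,2,4],28,0⟩)) (.node (.leaf ⟨[3,2,3,2,3],40,0⟩) (.leaf ⟨[1,3,4,5,3,8,9,3,2,1,3,4,5,3,8,9,3,2,1,3,4,5,3,8,9,3,2,1,3,4,5,3,8,9,3,2,1,3,4,5,3,8,9,3,2,1,3,4,5,3,8,9,3,2,1,3,4,5,3,8,9,3,2,1,3,4,5,3,8,9,3,2,1,3,4,5,3,8,9,3,2,1,3,4,5,3,8,9,3],57,82⟩))))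
noncomputable def l3r3 : Bt Ru := (.node (.node (.node (.leaf ⟨[9,3,9],37,0⟩) (.leaf ⟨[2,3,2,3,2],40,5⟩)) (.node (.leaf ⟨[5,3,5],21,0⟩) (.leaf ⟨[4,3,4,3,4],36,0⟩))) (.node (.node (.leaf ⟨[3],35,0⟩) (.leaf ⟨[1,3,1],34,3⟩)) (.node (.leaf ⟨[8,3,8,3,8],44,0⟩) (.leaf ⟨[3],35,0⟩))))
noncomputable def l3r4 : Bt Ru := (.node (.node (.node (.leaf ⟨[9,4,9],32,0⟩) (.leaf ⟨[3,4,3,4,3],36,5⟩)) (.node (.leaf ⟨[4],29,0⟩) (.leaf ⟨[5,4,5,4,5],30,0⟩))) (.node (.node (.leaf ⟨[8,4,8],31,0⟩) (.leaf ⟨[1,4,1],27,3⟩)) (.node (.leaf ⟨[2,4,2],28,3⟩) (.leaf ⟨[4],29,0⟩))))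
noncomputable def l3r5 : Bt Ru := (.node (.node (.node (.leaf ⟨[9,5,9],25,0⟩) (.leaf ⟨[3,5,3],21,3⟩)) (.node (.leaf ⟨[5],22,0⟩) (.leaf ⟨[2,5,2],20,3⟩))) (.node (.node (.leaf ⟨[8,5,8],24,3⟩) (.leaf ⟨[1,5,1],19,3⟩)) (.node (.leaf ⟨[4,5,4,5,4],30,5⟩) (.leaf ⟨[5],22,0⟩))))
noncomputable def l3r6 : Bt Ru := (.leaf ⟨[6],14,0⟩)
noncomputable def l3r7 : Bt Ru := (.leaf ⟨[7],6,0⟩)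
noncomputable def l3r8 : Bt Ru := (.node (.node (.node (.leaf ⟨[8],45,0⟩) (.leaf ⟨[2,8,2],49,3⟩)) (.node (.leaf ⟨[4,8,4],31,3⟩) (.leaf ⟨[9,8,9,8,9],51,0⟩))) (.node (.node (.leaf ⟨[3,8,3,8,3],44,5⟩) (.leaf ⟨[5,8,5],24,0⟩)) (.node (.leaf ⟨[1,8,1],43,3⟩) (.leaf ⟨[8],45,0⟩))))
noncomputable def l3r9 : Bt Ru := (.node (.node (.node (.leaf ⟨[9],52,0⟩) (.leaf ⟨[2,9,2],41,3⟩)) (.node (.leaf ⟨[3,9,3],37,3⟩) (.leaf ⟨[1,9,1],48,3⟩))) (.node (.node (.leaf ⟨[8,9,8,9,8],51,5⟩) (.leaf ⟨[5,9,5],25,3⟩)) (.node (.leaf ⟨[4,9,4],32,3⟩) (.leaf ⟨[9],52,0⟩))))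
noncomputable def l3r10 : Bt Ru := (.node (.node (.node (.leaf ⟨[5,3,5,3],21,3⟩) (.leaf ⟨[1,3,1,3],34,0⟩)) (.node (.leaf ⟨[9,3,9,3],37,3⟩) (.leaf ⟨[5,8,5,8],24,3⟩))) (.node (.node (.leaf ⟨[3,4,3,4,3,4],36,0⟩) (.leaf ⟨[1,2,1,2,1,2],47,0⟩)) (.node (.leaf ⟨[3,8,3,8,3,8],44,0⟩) (.leaf ⟨[3,1,2,3,9,8,3,5,4,3,1,2,3,9,8,3,5,4,3,1,2,3,9,8,3,5,4,3,1,2,3,9,8,3,5,4,3,1,2,3,9,8,3,5,4,3,1,2,3,9,8,3,5,4,3,1,2,3,9,8,3,5,4,3,1,2,3,9,8,3,5,4,3,1,2,3,9,8,3,5,4,3,1,2,3,9,8,3,5,4],58,86⟩))))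
noncomputable def l4r0 : Bt Ru := (.leaf ⟨[0],53,0⟩)
noncomputable def l4r1 : Bt Ru := (.node (.node (.node (.leaf ⟨[5,1,5],19,0⟩) (.leaf ⟨[1],46,0⟩)) (.node (.leaf ⟨[3,1,3],34,0⟩) (.leaf ⟨[1],46,0⟩))) (.node (.node (.leaf ⟨[4,1,4],27,0⟩) (.leaf ⟨[2,1,2,1,2],47,0⟩)) (.node (.leaf ⟨[8,1,8],43,0⟩) (.leaf ⟨[1],46,0⟩))))
noncomputable def l4r2 : Bt Ru := (.node (.node (.node (.leaf ⟨[5,2,5],20,0⟩) (.leaf ⟨[8,2,8],49,0⟩)) (.node (.leaf ⟨[2],39,0⟩) (.leaf ⟨[2],39,0⟩))) (.node (.node (.leaf ⟨[4,2,4],28,0⟩) (.leaf ⟨[3,2,3,2,3],40,0⟩)) (.node (.leaf ⟨[1,2,1,2,1],47,5⟩) (.leaf ⟨[2],39,0⟩))))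
noncomputable def l4r3 : Bt Ru := (.node (.node (.node (.leaf ⟨[5,3,5],21,0⟩) (.leaf ⟨[1,3,1],34,3⟩)) (.node (.leaf ⟨[2,3,2,3,2],40,5⟩) (.leaf ⟨[3],35,0⟩))) (.node (.node (.leaf ⟨[3],35,0⟩) (.leaf ⟨[4,3,4,3,4],36,0⟩)) (.node (.leaf ⟨[8,3,8,3,8],44,0⟩) (.leaf ⟨[3],35,0⟩))))
noncomputable def l4r4 : Bt Ru := (.node (.node (.node (.leaf ⟨[4],29,0⟩) (.leaf ⟨[1,4,1],27,3⟩)) (.node (.leaf ⟨[2,4,2],28,3⟩) (.leaf ⟨[4],29,0⟩))) (.node (.node (.leaf ⟨[3,4,3,4,3],36,5⟩) (.leaf ⟨[5,4,5,4,5],30,0⟩)) (.node (.leaf ⟨[8,4,8],31,0⟩) (.leaf ⟨[4],29,0⟩))))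
noncomputable def l4r5 : Bt Ru := (.node (.node (.node (.leaf ⟨[5],22,0⟩) (.leaf ⟨[8,5,8],24,3⟩)) (.node (.leaf ⟨[3,5,3],21,3⟩) (.leaf ⟨[5],22,0⟩))) (.node (.node (.leaf ⟨[4,5,4,5,4],30,5⟩) (.leaf ⟨[1,5,1],19,3⟩)) (.node (.leaf ⟨[2,5,2],20,3⟩) (.leaf ⟨[5],22,0⟩))))
noncomputable def l4r6 : Bt Ru := (.leaf ⟨[6],14,0⟩)
noncomputable def l4r7 : Bt Ru := (.leaf ⟨[7],6,0⟩)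
noncomputable def l4r8 : Bt Ru := (.node (.node (.node (.leaf ⟨[5,8,5],24,0⟩) (.leaf ⟨[1,8,1],43,3⟩)) (.node (.leaf ⟨[8],45,0⟩) (.leaf ⟨[8],45,0⟩))) (.node (.node (.leaf ⟨[4,8,4],31,3⟩) (.leaf ⟨[2,8,2],49,3⟩)) (.node (.leaf ⟨[3,8,3,8,3],44,5⟩) (.leaf ⟨[8],45,0⟩))))
noncomputable def l4r9 : Bt Ru := (.leaf ⟨[9],52,0⟩)
noncomputable def l4r10 : Bt Ru := (.leaf ⟨[0,0],53,0⟩)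
noncomputable def l5r0 : Bt Ru := (.leaf ⟨[0],53,0⟩)
noncomputable def l5r1 : Bt Ru := (.node (.node (.node (.leaf ⟨[8,1,8],43,0⟩) (.leaf ⟨[2,1,2,1,2],47,0⟩)) (.node (.leaf ⟨[4,1,4],27,0⟩) (.leaf ⟨[1],46,0⟩))) (.node (.node (.leaf ⟨[3,1,3],34,0⟩) (.leaf ⟨[1],46,0⟩)) (.node (.leaf ⟨[1],46,0⟩) (.leaf ⟨[1],46,0⟩))))
noncomputable def l5r2 : Bt Ru := (.node (.node (.node (.leaf ⟨[8,2,8],49,0⟩) (.leaf ⟨[3,2,3,2,3],40,0⟩)) (.node (.leaf ⟨[1,2,1,2,1],47,5⟩) (.leaf ⟨[2],39,0⟩))) (.node (.node (.leaf ⟨[2],39,0⟩) (.leaf ⟨[2],39,0⟩)) (.node (.leaf ⟨[4,2,4],28,0⟩) (.leaf ⟨[2],39,0⟩))))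
noncomputable def l5r3 : Bt Ru := (.node (.node (.node (.leaf ⟨[3],35,0⟩) (.leaf ⟨[8,3,8,3,8],44,0⟩)) (.node (.leaf ⟨[4,3,4,3,4],36,0⟩) (.leaf ⟨[3],35,0⟩))) (.node (.node (.leaf ⟨[2,3,2,3,2],40,5⟩) (.leaf ⟨[3],35,0⟩)) (.node (.leaf ⟨[1,3,1],34,3⟩) (.leaf ⟨[3],35,0⟩))))
noncomputable def l5r4 : Bt Ru := (.node (.node (.node (.leaf ⟨[8,4,8],31,0⟩) (.leaf ⟨[2,4,2],28,3⟩)) (.node (.leaf ⟨[3,4,3,4,3],36,5⟩) (.leaf ⟨[4],29,0⟩))) (.node (.node (.leaf ⟨[4],29,0⟩) (.leaf ⟨[4],29,0⟩)) (.node (.leaf ⟨[1,4,1],27,3⟩) (.leaf ⟨[4],29,0⟩))))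
noncomputable def l5r5 : Bt Ru := (.leaf ⟨[5],22,0⟩)
noncomputable def l5r6 : Bt Ru := (.leaf ⟨[6],14,0⟩)
noncomputable def l5r7 : Bt Ru := (.leaf ⟨[7],6,0⟩)
noncomputable def l5r8 : Bt Ru := (.node (.node (.node (.leaf ⟨[8],45,0⟩) (.leaf ⟨[1,8,1],43,3⟩)) (.node (.leaf ⟨[2,8,2],49,3⟩) (.leaf ⟨[8],45,0⟩))) (.node (.node (.leaf ⟨[3,8,3,8,3],44,5⟩) (.leaf ⟨[8],45,0⟩)) (.node (.leaf ⟨[4,8,4],31,3⟩) (.leaf ⟨[8],45,0⟩))))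
noncomputable def l5r9 : Bt Ru := (.leaf ⟨[9],52,0⟩)
noncomputable def l5r10 : Bt Ru := (.leaf ⟨[0,0],53,0⟩)
noncomputable def l6r0 : Bt Ru := (.leaf ⟨[0],53,0⟩)
noncomputable def l6r1 : Bt Ru := (.node (.node (.leaf ⟨[1],46,0⟩) (.leaf ⟨[4,1,4],27,0⟩)) (.node (.leaf ⟨[3,1,3],34,0⟩) (.leaf ⟨[2,1,2,1,2],47,0⟩)))
noncomputable def l6r2 : Bt Ru := (.node (.node (.leaf ⟨[2],39,0⟩) (.leaf ⟨[1,2,1,2,1],47,5⟩)) (.node (.leaf ⟨[4,2,4],28,0⟩) (.leaf ⟨[3,2,3,2,3],40,0⟩)))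
noncomputable def l6r3 : Bt Ru := (.node (.node (.leaf ⟨[3],35,0⟩) (.leaf ⟨[1,3,1],34,3⟩)) (.node (.leaf ⟨[2,3,2,3,2],40,5⟩) (.leaf ⟨[4,3,4,3,4],36,0⟩)))
noncomputable def l6r4 : Bt Ru := (.node (.node (.leaf ⟨[4],29,0⟩) (.leaf ⟨[3,4,3,4,3],36,5⟩)) (.node (.leaf ⟨[1,4,1],27,3⟩) (.leaf ⟨[2,4,2],28,3⟩)))
noncomputable def l6r5 : Bt Ru := (.leaf ⟨[5],22,0⟩)
noncomputable def l6r6 : Bt Ru := (.leaf ⟨[6],14,0⟩)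
noncomputable def l6r7 : Bt Ru := (.leaf ⟨[7],6,0⟩)
noncomputable def l6r8 : Bt Ru := (.leaf ⟨[8],45,0⟩)
noncomputable def l6r9 : Bt Ru := (.leaf ⟨[9],52,0⟩)
noncomputable def l6r10 : Bt Ru := (.leaf ⟨[0,0],53,0⟩)
noncomputable def l0T : List (Bt Nat) := [l0t0, l0t1, l0t2, l0t3, l0t4, l0t5, l0t6, l0t7, l0t8, l0t9, l0t10, l0t11]
noncomputable def l0R : List (Bt Ru) := [l0r0, l0r1, l0r2, l0r3, l0r4, l0r5, l0r6, l0r7, l0r8, l0r9, l0r10]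
noncomputable def l0c (a lo cnt : Nat) : Nat := chk (gT l0T (nat_lit 14)) (rT l0R) (nat_lit 14) (nat_lit 0x3fffc0) (nat_lit 0x3fc000) (nat_lit 0x3fc0) (nat_lit 10) (nat_lit 22) (nat_lit 0xffff) (nat_lit 0x8000003fffffffff) (nat_lit 43) (nat_lit 84) (nat_lit 895) (nat_lit 0x278ec0) a (nfOf [0,1,2,3,4,5,6,7,8,9] 31671 a) lo cnt
noncomputable def l0f (a : Nat) : Nat := l0c a 0 255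
noncomputable def l0m (lo cnt : Nat) : Nat := chkM (gT l0T (nat_lit 14)) (nat_lit 14) (nat_lit 0x3fffc0) (nat_lit 0x3fc000) (nat_lit 0x3fc0) (nat_lit 10) lo cnt
noncomputable def l1T : List (Bt Nat) := [l1t0, l1t1, l1t2, l1t3, l1t4, l1t5, l1t6, (.leaf (nat_lit 0)), l1t8, l1t9, l1t10, l1t11]
noncomputable def l1R : List (Bt Ru) := [l1r0, l1r1, l1r2, l1r3, l1r4, l1r5, l1r6, l1r7, l1r8, l1r9, l1r10]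
noncomputable def l1c (a lo cnt : Nat) : Nat := chk (gT l1T (nat_lit 14)) (rT l1R) (nat_lit 14) (nat_lit 0x1fffc0) (nat_lit 0x1fc000) (nat_lit 0x3fc0) (nat_lit 10) (nat_lit 21) (nat_lit 0x7fff) (nat_lit 0x8000000fffffffff) (nat_lit 26) (nat_lit 50) (nat_lit 894) (nat_lit 0x101200) a (nfOf [0,1,2,3,4,5,6,8,9] 14080 a) lo cnt
noncomputable def l1f (a : Nat) : Nat := l1c a 0 127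
noncomputable def l1m (lo cnt : Nat) : Nat := chkM (gT l1T (nat_lit 14)) (nat_lit 14) (nat_lit 0x1fffc0) (nat_lit 0x1fc000) (nat_lit 0x3fc0) (nat_lit 10) lo cnt
noncomputable def l2T : List (Bt Nat) := [(.leaf (nat_lit 0)), l2t1, l2t2, l2t3, l2t4, l2t5, l2t6, (.leaf (nat_lit 0)), l2t8, l2t9, l2t10, l2t11]
noncomputable def l2R : List (Bt Ru) := [l2r0, l2r1, l2r2, l2r3, l2r4, l2r5, l2r6, l2r7, l2r8, l2r9, l2r10]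
noncomputable def l2c (a lo cnt : Nat) : Nat := chk (gT l2T (nat_lit 14)) (rT l2R) (nat_lit 14) (nat_lit 0x3ffc0) (nat_lit 0x3c000) (nat_lit 0x3fc0) (nat_lit 10) (nat_lit 18) (nat_lit 4095) (nat_lit 0x800000003fffffff) (nat_lit 11) (nat_lit 20) (nat_lit 830) (nat_lit 0x1fe00) a (nfOf [1,2,3,4,5,6,8,9] 728 a) lo cnt
noncomputable def l2f (a : Nat) : Nat := l2c a 0 15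
noncomputable def l2m (lo cnt : Nat) : Nat := chkM (gT l2T (nat_lit 14)) (nat_lit 14) (nat_lit 0x3ffc0) (nat_lit 0x3c000) (nat_lit 0x3fc0) (nat_lit 10) lo cnt
noncomputable def l3T : List (Bt Nat) := [(.leaf (nat_lit 0)), l3t1, l3t2, l3t3, l3t4, l3t5, (.leaf (nat_lit 0)), (.leaf (nat_lit 0)), l3t8, l3t9, l3t10, l3t11]
noncomputable def l3R : List (Bt Ru) := [l3r0, l3r1, l3r2, l3r3, l3r4, l3r5, l3r6, l3r7, l3r8, l3r9, l3r10]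
noncomputable def l3c (a lo cnt : Nat) : Nat := chk (gT l3T (nat_lit 14)) (rT l3R) (nat_lit 14) (nat_lit 0xffc0) (nat_lit 0xc000) (nat_lit 0x3fc0) (nat_lit 10) (nat_lit 16) (nat_lit 1023) (nat_lit 0x8000000003ffffff) (nat_lit 10) (nat_lit 18) (nat_lit 318) (nat_lit 0xca80) a (nfOf [1,2,3,4,5,8,9] 243 a) lo cnt
noncomputable def l3f (a : Nat) : Nat := l3c a 0 3
noncomputable def l3m (lo cnt : Nat) : Nat := chkM (gT l3T (nat_lit 14)) (nat_lit 14) (nat_lit 0xffc0) (nat_lit 0xc000) (nat_lit 0x3fc0) (nat_lit 10) lo cnt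
noncomputable def l4T : List (Bt Nat) := [(.leaf (nat_lit 0)), l4t1, l4t2, l4t3, l4t4, l4t5, (.leaf (nat_lit 0)), (.leaf (nat_lit 0)), l4t8, (.leaf (nat_lit 0)), (.leaf (nat_lit 0)), l4t11]
noncomputable def l4R : List (Bt Ru) := [l4r0, l4r1, l4r2, l4r3, l4r4, l4r5, l4r6, l4r7, l4r8, l4r9, l4r10]
noncomputable def l4c (a lo cnt : Nat) : Nat := chk (gT l4T (nat_lit 14)) (rT l4R) (nat_lit 14) (nat_lit 0x7fc0) (nat_lit 0x4000) (nat_lit 0x3fc0) (nat_lit 10) (nat_lit 15) (nat_lit 511) (nat_lit 0x8000000000ffffff) (nat_lit 8) (nat_lit 14) (nat_lit 286) (nat_lit 0x4680) a (nfOf [1,2,3,4,5,8] 27 a) lo cnt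
noncomputable def l4f (a : Nat) : Nat := l4c a 0 1
noncomputable def l4m (lo cnt : Nat) : Nat := chkM (gT l4T (nat_lit 14)) (nat_lit 14) (nat_lit 0x7fc0) (nat_lit 0x4000) (nat_lit 0x3fc0) (nat_lit 10) lo cnt
noncomputable def l5T : List (Bt Nat) := [(.leaf (nat_lit 0)), l5t1, l5t2, l5t3, l5t4, (.leaf (nat_lit 0)), (.leaf (nat_lit 0)), (.leaf (nat_lit 0)), l5t8, (.leaf (nat_lit 0)), (.leaf (nat_lit 0)), l5t11]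
noncomputable def l5R : List (Bt Ru) := [l5r0, l5r1, l5r2, l5r3, l5r4, l5r5, l5r6, l5r7, l5r8, l5r9, l5r10]
noncomputable def l5c (a lo cnt : Nat) : Nat := chk (gT l5T (nat_lit 14)) (rT l5R) (nat_lit 14) (nat_lit 0x7fc0) (nat_lit 0x4000) (nat_lit 0x3fc0) (nat_lit 10) (nat_lit 15) (nat_lit 511) (nat_lit 0x8000000000ffffff) (nat_lit 7) (nat_lit 12) (nat_lit 30) (nat_lit 0x43c0) a (nfOf [1,2,3,4,8] 16 a) lo cnt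
noncomputable def l5f (a : Nat) : Nat := l5c a 0 1
noncomputable def l5m (lo cnt : Nat) : Nat := chkM (gT l5T (nat_lit 14)) (nat_lit 14) (nat_lit 0x7fc0) (nat_lit 0x4000) (nat_lit 0x3fc0) (nat_lit 10) lo cnt
noncomputable def l6T : List (Bt Nat) := [(.leaf (nat_lit 0)), l6t1, l6t2, l6t3, l6t4, (.leaf (nat_lit 0)), (.leaf (nat_lit 0)), (.leaf (nat_lit 0)), (.leaf (nat_lit 0)), (.leaf (nat_lit 0)), (.leaf (nat_lit 0)), l6t11]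
noncomputable def l6R : List (Bt Ru) := [l6r0, l6r1, l6r2, l6r3, l6r4, l6r5, l6r6, l6r7, l6r8, l6r9, l6r10]
noncomputable def l6c (a lo cnt : Nat) : Nat := chk (gT l6T (nat_lit 14)) (rT l6R) (nat_lit 14) (nat_lit 0x7fc0) (nat_lit 0x4000) (nat_lit 0x3fc0) (nat_lit 10) (nat_lit 15) (nat_lit 511) (nat_lit 0x8000000000ffffff) (nat_lit 6) (nat_lit 10) (nat_lit 0) (nat_lit 0x5dc0) a (nfOf [1,2,3,4] 120 a) lo cnt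
noncomputable def l6f (a : Nat) : Nat := l6c a 0 1
noncomputable def l6m (lo cnt : Nat) : Nat := chkM (gT l6T (nat_lit 14)) (nat_lit 14) (nat_lit 0x7fc0) (nat_lit 0x4000) (nat_lit 0x3fc0) (nat_lit 10) lo cnt

end Cfsg.Agent.TCX.Fi23
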