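import Cfsg.Agent.Lib.TCX.Fi23.C0
import Cfsg.Agent.Lib.TCX.Cert

set_option autoImplicit false
set_option maxRecDepth 100000
set_option Elab.async false

namespace Cfsg.Agent.TCX.Fi23

open Cfsg.Agent.CG

/-- The relators used. -/
noncomputable def R : List (List ℕ) := [[0,7,0,7],
  [1,7,1,7],
  [2,7,2,7],
  [3,7,3,7],
  [4,7,4,7],
  [5,7,5,7],
  [7,7],
  [8,7,8,7],
  [7,9,7,9],
  [0,6,0,6],
  [1,6,1,6],
  [2,6,2,6],
  [3,6,3,6],
  [4,6,4,6],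
  [6,6],
  [6,7,6,7,6,7],
  [8,6,8,6],
  [6,9,6,9],
  [0,5,0,5],
  [1,5,1,5],
  [2,5,2,5],
  [3,5,3,5],
  [5,5],
  [5,6,5,6,5,6],
  [8,5,8,5],
  [5,9,5,9],
  [0,4,0,4],
  [1,4,1,4],
  [2,4,2,4],
  [4,4],
  [4,5,4,5,4,5],
  [4,8,4,8],
  [4,9,4,9],
  [0,3,0,3],
  [1,3,1,3],
  [3,3],
  [3,4,3,4,3,4],
  [3,9,3,9],
  [0,2,0,2],
  [2,2],
  [2,3,2,3,2,3],
  [2,9,2,9],
  [0,8,0,8],
  [1,8,1,8],
  [3,8,3,8,3,8],
  [8,8],
  [1,1],
  [1,2,1,2,1,2],
  [1,9,1,9],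
  [2,8,2,8],
  [0,9,0,9],
  [8,9,8,9,8,9],
  [9,9],
  [0,0],
  [0,1,0,1,0,1],
  [8,5,4,3,2,1,0,8,5,4,3,2,1,0,8,5,4,3,2,1,0,8,5,4,3,2,1,0,8,5,4,3,2,1,0,8,5,4,3,2,1,0,8,5,4,3,2,1,0,8,5,4,3,2,1,0,8,5,4,3,2,1,0],
  [0,1,2,3,4,5,8,0,1,2,3,4,5,8,0,1,2,3,4,5,8,0,1,2,3,4,5,8,0,1,2,3,4,5,8,0,1,2,3,4,5,8,0,1,2,3,4,5,8,0,1,2,3,4,5,8,0,1,2,3,4,5,8],
  [3,2,1,3,4,5,3,8,9,3,2,1,3,4,5,3,8,9,3,2,1,3,4,5,3,8,9,3,2,1,3,4,5,3,8,9,3,2,1,3,4,5,3,8,9,3,2,1,3,4,5,3,8,9,3,2,1,3,4,5,3,8,9,3,2,1,3,4,5,3,8,9,3,2,1,3,4,5,3,8,9,3,2,1,3,4,5,3,8,9],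
  [9,8,3,5,4,3,1,2,3,9,8,3,5,4,3,1,2,3,9,8,3,5,4,3,1,2,3,9,8,3,5,4,3,1,2,3,9,8,3,5,4,3,1,2,3,9,8,3,5,4,3,1,2,3,9,8,3,5,4,3,1,2,3,9,8,3,5,4,3,1,2,3,9,8,3,5,4,3,1,2,3,9,8,3,5,4,3,1,2,3]]

noncomputable def invL : List ℕ := [0,1,2,3,4,5,6,7,8,9]

/-- How the relators used follow from the given ones. -/
noncomputable def hints : List (ℕ × Bool × List ℕ) := [(10,false,[]),
  (20,false,[]),
  (30,false,[]),
  (40,false,[]),
  (50,false,[]),
  (70,false,[]),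
  (102,false,[]),
  (60,false,[]),
  (91,false,[]),
  (9,false,[]),
  (19,false,[]),
  (29,false,[]),
  (39,false,[]),
  (49,false,[]),
  (102,false,[]),
  (80,false,[]),
  (59,false,[]),
  (81,false,[]),
  (8,false,[]),
  (18,false,[]),
  (28,false,[]),
  (38,false,[]),
  (102,false,[]),
  (69,false,[]),
  (58,false,[]),
  (71,false,[]),
  (6,false,[]),
  (16,false,[]),
  (26,false,[]),
  (102,false,[]),
  (48,false,[]),
  (47,false,[]),
  (51,false,[]),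
  (5,false,[]),
  (15,false,[]),
  (102,false,[]),
  (36,false,[]),
  (41,false,[]),
  (4,false,[]),
  (102,false,[]),
  (25,false,[]),
  (31,false,[]),
  (7,false,[]),
  (17,false,[]),
  (37,false,[]),
  (102,false,[]),
  (102,false,[]),
  (14,false,[]),
  (21,false,[]),
  (27,false,[]),
  (11,false,[]),
  (61,false,[]),
  (102,false,[]),
  (102,false,[]),
  (3,false,[]),
  (1,true,[]),
  (1,false,[]),
  (0,false,[]),
  (0,true,[])]

theorem l0g (a : ℕ) : Glue (l0c a) := fun _ _ _ => chk_append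
theorem l0f0 : l0f 0 = 0 :=
  show l0c 0 0 255 = 0 from (l0g 0).app (n := 255) (c0) c1 rfl rfl
theorem l0f1 : l0f 1 = 0 :=
  show l0c 1 0 255 = 0 from (l0g 1).app (n := 255) (c2) c3 rfl rfl
theorem l0f2 : l0f 2 = 0 :=
  show l0c 2 0 255 = 0 from (l0g 2).app (n := 255) (c4) c5 rfl rfl
theorem l0f3 : l0f 3 = 0 :=
  show l0c 3 0 255 = 0 from (l0g 3).app (n := 255) (c6) c7 rfl rfl
theorem l0f4 : l0f 4 = 0 :=
  show l0c 4 0 255 = 0 from (l0g 4).app (n := 255) (c8) c9 rfl rfl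
theorem l0f5 : l0f 5 = 0 :=
  show l0c 5 0 255 = 0 from (l0g 5).app (n := 255) (c10) c11 rfl rfl
theorem l0f6 : l0f 6 = 0 :=
  show l0c 6 0 255 = 0 from (l0g 6).app (n := 255) (c12) c13 rfl rfl
theorem l0f7 : l0f 7 = 0 :=
  show l0c 7 0 255 = 0 from (l0g 7).app (n := 255) (c14) c15 rfl rfl
theorem l0f8 : l0f 8 = 0 :=
  show l0c 8 0 255 = 0 from (l0g 8).app (n := 255) (c16) c17 rfl rfl
theorem l0f9 : l0f 9 = 0 :=
  show l0c 9 0 255 = 0 from (l0g 9).app (n := 255) (c18) c19 rfl rfl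
theorem l0f10 : l0f 10 = 0 :=
  show l0c 10 0 255 = 0 from (l0g 10).app (n := 255) (c20) c21 rfl rfl
theorem l0all : ∀ a, a < 11 → l0f a = 0 :=
  allz_snoc (allz_snoc (allz_snoc (allz_snoc (allz_snoc (allz_snoc (allz_snoc (allz_snoc (allz_snoc (allz_snoc (allz_snoc (allz_zero _) l0f0) l0f1) l0f2) l0f3) l0f4) l0f5) l0f6) l0f7) l0f8) l0f9) l0f10
theorem l0ru : allLt (rusChk R (nat_lit 10) l0R) 11 = true := by decide +kernel
theorem l0gm : Glue l0m := fun _ _ _ => chkM_append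
theorem l0mm : l0m 31671 8581 = 0 := c22
theorem l0_ok : Idx R [0,1,2,3,4,5,6,7,8,9] [0,1,2,3,4,5,6,8,9] 31671 :=
  idx_of_chk (cm := 8581) (q := 8) (d := 8) (s2 := 38) (full := 255) (f := l0f) (by decide +kernel) (by decide +kernel) (fun _ => rfl) l0all l0ru (by decide +kernel) (by decide +kernel) l0mm

theorem l1g (a : ℕ) : Glue (l1c a) := fun _ _ _ => chk_append
theorem l1f0 : l1f 0 = 0 :=
  show l1c 0 0 127 = 0 from c23
theorem l1f1 : l1f 1 = 0 :=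
  show l1c 1 0 127 = 0 from c24
theorem l1f2 : l1f 2 = 0 :=
  show l1c 2 0 127 = 0 from c25
theorem l1f3 : l1f 3 = 0 :=
  show l1c 3 0 127 = 0 from c26
theorem l1f4 : l1f 4 = 0 :=
  show l1c 4 0 127 = 0 from c27
theorem l1f5 : l1f 5 = 0 :=
  show l1c 5 0 127 = 0 from c28
theorem l1f6 : l1f 6 = 0 :=
  show l1c 6 0 127 = 0 from c29
theorem l1f7 : l1f 7 = 0 :=
  show l1c 7 0 127 = 0 from c30
theorem l1f8 : l1f 8 = 0 :=
  show l1c 8 0 127 = 0 from c31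
theorem l1f9 : l1f 9 = 0 :=
  show l1c 9 0 127 = 0 from c32
theorem l1f10 : l1f 10 = 0 :=
  show l1c 10 0 127 = 0 from c33
theorem l1all : ∀ a, a < 11 → l1f a = 0 :=
  allz_snoc (allz_snoc (allz_snoc (allz_snoc (allz_snoc (allz_snoc (allz_snoc (allz_snoc (allz_snoc (allz_snoc (allz_snoc (allz_zero _) l1f0) l1f1) l1f2) l1f3) l1f4) l1f5) l1f6) l1f7) l1f8) l1f9) l1f10
theorem l1ru : allLt (rusChk R (nat_lit 10) l1R) 11 = true := by decide +kernel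
theorem l1gm : Glue l1m := fun _ _ _ => chkM_append
theorem l1mm : l1m 14080 2121 = 0 := c34
theorem l1_ok : Idx R [0,1,2,3,4,5,6,8,9] [1,2,3,4,5,6,8,9] 14080 :=
  idx_of_chk (cm := 2121) (q := 8) (d := 7) (s2 := 36) (full := 127) (f := l1f) (by decide +kernel) (by decide +kernel) (fun _ => rfl) l1all l1ru (by decide +kernel) (by decide +kernel) l1mm

theorem l2all : ∀ a, a < 11 → l2f a = 0 :=
  allz_of_orR c35
theorem l2ru : allLt (rusChk R (nat_lit 10) l2R) 11 = true := by decide +kernel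
theorem l2gm : Glue l2m := fun _ _ _ => chkM_append
theorem l2mm : l2m 728 1057 = 0 := c36
theorem l2_ok : Idx R [1,2,3,4,5,6,8,9] [1,2,3,4,5,8,9] 728 :=
  idx_of_chk (cm := 1057) (q := 8) (d := 4) (s2 := 30) (full := 15) (f := l2f) (by decide +kernel) (by decide +kernel) (fun _ => rfl) l2all l2ru (by decide +kernel) (by decide +kernel) l2mm

theorem l3all : ∀ a, a < 11 → l3f a = 0 :=
  allz_of_orR c37
theorem l3ru : allLt (rusChk R (nat_lit 10) l3R) 11 = true := by decide +kernel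
theorem l3gm : Glue l3m := fun _ _ _ => chkM_append
theorem l3mm : l3m 243 312 = 0 := c38
theorem l3_ok : Idx R [1,2,3,4,5,8,9] [1,2,3,4,5,8] 243 :=
  idx_of_chk (cm := 312) (q := 8) (d := 2) (s2 := 26) (full := 3) (f := l3f) (by decide +kernel) (by decide +kernel) (fun _ => rfl) l3all l3ru (by decide +kernel) (by decide +kernel) l3mm

theorem l4all : ∀ a, a < 11 → l4f a = 0 :=
  allz_of_orR c39
theorem l4ru : allLt (rusChk R (nat_lit 10) l4R) 11 = true := by decide +kernel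
theorem l4gm : Glue l4m := fun _ _ _ => chkM_append
theorem l4mm : l4m 27 0 = 0 := c40
theorem l4_ok : Idx R [1,2,3,4,5,8] [1,2,3,4,8] 27 :=
  idx_of_chk (cm := 0) (q := 8) (d := 1) (s2 := 24) (full := 1) (f := l4f) (by decide +kernel) (by decide +kernel) (fun _ => rfl) l4all l4ru (by decide +kernel) (by decide +kernel) l4mm

theorem l5all : ∀ a, a < 11 → l5f a = 0 :=
  allz_of_orR c41
theorem l5ru : allLt (rusChk R (nat_lit 10) l5R) 11 = true := by decide +kernel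
theorem l5gm : Glue l5m := fun _ _ _ => chkM_append
theorem l5mm : l5m 16 0 = 0 := c42
theorem l5_ok : Idx R [1,2,3,4,8] [1,2,3,4] 16 :=
  idx_of_chk (cm := 0) (q := 8) (d := 1) (s2 := 24) (full := 1) (f := l5f) (by decide +kernel) (by decide +kernel) (fun _ => rfl) l5all l5ru (by decide +kernel) (by decide +kernel) l5mm

theorem l6all : ∀ a, a < 11 → l6f a = 0 :=
  allz_of_orR c43
theorem l6ru : allLt (rusChk R (nat_lit 10) l6R) 11 = true := by decide +kernel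
theorem l6gm : Glue l6m := fun _ _ _ => chkM_append
theorem l6mm : l6m 120 0 = 0 := c44
theorem l6_ok : Idx R [1,2,3,4] [] 120 :=
  idx_of_chk (cm := 0) (q := 8) (d := 1) (s2 := 24) (full := 1) (f := l6f) (by decide +kernel) (by decide +kernel) (fun _ => rfl) l6all l6ru (by decide +kernel) (by decide +kernel) l6mm

theorem bounds : Bounds R [0,1,2,3,4,5,6,7,8,9] 4089470473293004800 := fun _ _ y hR =>
  (show 31671 * (14080 * (728 * (243 * (27 * (16 * (120 * (1))))))) = 4089470473293004800 by decide +kernel) ▸ l0_ok.bound hR (l1_ok.bound hR (l2_ok.bound hR (l3_ok.bound hR (l4_ok.bound hR (l5_ok.bound hR (l6_ok.bound hR (bound_nil y)))))))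

end Cfsg.Agent.TCX.Fi23
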